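import Groth.Prelude.Def_EGA41
import Groth.Agent.EGA41Lib.Separable
import Mathlib

/-!
# Admissibility defects of field extensions
-/

set_option autoImplicit false
universe u u' u'' w
open TensorProduct KaehlerDifferential

namespace Groth.Agent.AdmDefect

section General

variable {R : Type u} {S : Type u'} {K L : Type w} [CommRing R] [CommRing S] [CommRing K]
  [CommRing L] [Algebra R S] [Algebra R K] [Algebra S K] [IsScalarTower R S K]
  [Algebra R L] [Algebra S L] [IsScalarTower R S L] [Algebra K L] [IsScalarTower R K L]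
  [IsScalarTower S K L]

variable (R S K L) in
/-- The map `L ⊗_S Ω_{S/R} → L ⊗_K Ω_{K/R}`. -/
noncomputable def kap : L ⊗[S] Ω[S⁄R] →ₗ[L] L ⊗[K] Ω[K⁄R] :=
  ((mapBaseChange R S K).baseChange L).comp
    (AlgebraTensorModule.cancelBaseChange S K L L Ω[S⁄R]).symm.toLinearMap

lemma kap_tmul_D (x : S) :
    kap R S K L ((1 : L) ⊗ₜ D R S x) = (1 : L) ⊗ₜ D R K (algebraMap S K x) := by
  simp only [kap, LinearMap.comp_apply, LinearEquiv.coe_coe,
    AlgebraTensorModule.cancelBaseChange_symm_tmul, LinearMap.baseChange_tmul,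
    mapBaseChange_tmul, KaehlerDifferential.map_D, one_smul]

omit [Algebra R L] [IsScalarTower R S L] [IsScalarTower R K L] in
lemma ext_one_tmul_D {N : Type*} [AddCommGroup N] [Module L N] {f g : L ⊗[S] Ω[S⁄R] →ₗ[L] N}
    (h : ∀ x, f ((1 : L) ⊗ₜ D R S x) = g ((1 : L) ⊗ₜ D R S x)) : f = g := by
  letI : Module S N := Module.compHom N (algebraMap S L)
  haveI : IsScalarTower S L N := IsScalarTower.of_compHom S L N
  refine TensorProduct.AlgebraTensorModule.curry_injective
    (LinearMap.ext_ring (LinearMap.ext_on (KaehlerDifferential.span_range_derivation R S) ?_))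
  rintro _ ⟨a, rfl⟩
  simpa using h a

lemma mapBaseChange_kap (y : L ⊗[S] Ω[S⁄R]) :
    mapBaseChange R K L (kap R S K L y) = mapBaseChange R S L y := by
  refine LinearMap.congr_fun (f := (mapBaseChange R K L).comp (kap R S K L)) ?_ y
  exact ext_one_tmul_D fun x => by
    rw [LinearMap.comp_apply, kap_tmul_D, mapBaseChange_tmul, mapBaseChange_tmul,
      KaehlerDifferential.map_D, KaehlerDifferential.map_D, ← IsScalarTower.algebraMap_apply]

omit [Algebra R L] [IsScalarTower R S L] [IsScalarTower R K L] in
lemma exists_kap_eq (z : L ⊗[K] Ω[K⁄R])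
    (hz : (KaehlerDifferential.map R S K K).baseChange L z = 0) :
    ∃ y, kap R S K L y = z := by
  have hex : Function.Exact ((mapBaseChange R S K).lTensor L)
      ((KaehlerDifferential.map R S K K).lTensor L) :=
    lTensor_exact L (exact_mapBaseChange_map R S K) (KaehlerDifferential.map_surjective R S K)
  obtain ⟨w, hw⟩ := (hex z).1 (by rw [← LinearMap.baseChange_eq_ltensor]; exact hz)
  refine ⟨AlgebraTensorModule.cancelBaseChange S K L L Ω[S⁄R] w, ?_⟩
  rw [kap, LinearMap.comp_apply, LinearEquiv.coe_coe, LinearEquiv.symm_apply_apply,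
    LinearMap.baseChange_eq_ltensor, hw]

lemma map_baseChange_kap (y : L ⊗[S] Ω[S⁄R]) :
    (KaehlerDifferential.map R S K K).baseChange L (kap R S K L y) = 0 := by
  refine LinearMap.congr_fun
    (f := ((KaehlerDifferential.map R S K K).baseChange L).comp (kap R S K L)) (g := 0) ?_ y
  exact ext_one_tmul_D fun x => by
    rw [LinearMap.comp_apply, kap_tmul_D, LinearMap.baseChange_tmul, KaehlerDifferential.map_D]
    simp

/-- An element of the imperfection module killed in `L ⊗ Ω_{K/S}` vanishes when
`L ⊗ Ω_{S/R} → Ω_{L/R}` is injective. -/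
lemma eq_zero_of_injective (hinj : Function.Injective (mapBaseChange R S L))
    (z : L ⊗[K] Ω[K⁄R]) (hz : mapBaseChange R K L z = 0)
    (h : (KaehlerDifferential.map R S K K).baseChange L z = 0) : z = 0 := by
  obtain ⟨y, rfl⟩ := exists_kap_eq z h
  rw [mapBaseChange_kap] at hz
  rw [hinj (hz.trans (map_zero _).symm), map_zero]

end General

section Trans

variable {R : Type u} {S : Type u'} {T : Type u''} {K L : Type w} [CommRing R] [CommRing S]
  [CommRing T] [CommRing K] [CommRing L] [Algebra R S] [Algebra R T] [Algebra S T]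
  [IsScalarTower R S T] [Algebra R K] [Algebra S K] [Algebra T K] [IsScalarTower R S K]
  [IsScalarTower S T K] [IsScalarTower R T K] [Algebra K L]

lemma map_map_baseChange (z : L ⊗[K] Ω[K⁄R]) :
    (KaehlerDifferential.map S T K K).baseChange L
        ((KaehlerDifferential.map R S K K).baseChange L z) =
      (KaehlerDifferential.map R T K K).baseChange L z := by
  refine LinearMap.congr_fun
    (f := ((KaehlerDifferential.map S T K K).baseChange L).comp
      ((KaehlerDifferential.map R S K K).baseChange L)) ?_ z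
  exact ext_one_tmul_D fun x => by simp

variable [Algebra R L] [Algebra S L] [IsScalarTower R S L] [IsScalarTower R K L]
  [IsScalarTower S K L]

lemma mapBaseChange_map (z : L ⊗[K] Ω[K⁄R]) :
    mapBaseChange S K L ((KaehlerDifferential.map R S K K).baseChange L z) =
      KaehlerDifferential.map R S L L (mapBaseChange R K L z) := by
  refine LinearMap.congr_fun
    (f := (mapBaseChange S K L).comp ((KaehlerDifferential.map R S K K).baseChange L))
    (g := (KaehlerDifferential.map R S L L).comp (mapBaseChange R K L)) ?_ z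
  exact ext_one_tmul_D fun x => by simp

end Trans

section Separable

variable {k : Type u} {k₀ K L : Type w} [Field k₀] [Field k] [Field K] [Field L] [Algebra k₀ k]
  [Algebra k₀ K] [Algebra k₀ L] [Algebra k K] [Algebra k L] [Algebra K L] [IsScalarTower k₀ k K]
  [IsScalarTower k₀ k L] [IsScalarTower k₀ K L] [IsScalarTower k K L]

/-- Geometric reducedness passes to the copy of the base field inside `K`. -/
lemma isGeometricallyReduced_bot [Algebra.IsGeometricallyReduced k L] :
    Algebra.IsGeometricallyReduced (⊥ : IntermediateField k K) L := by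
  rw [Algebra.isGeometricallyReduced_field_iff]
  have hbot : Function.Surjective (algebraMap k (⊥ : IntermediateField k K)) := fun x => by
    obtain ⟨a, ha⟩ := IntermediateField.mem_bot.1 x.2
    exact ⟨a, Subtype.ext ha⟩
  have : Algebra.IsAlgebraic k (AlgebraicClosure (⊥ : IntermediateField k K)) := by
    have : Algebra.IsAlgebraic k (⊥ : IntermediateField k K) := ⟨fun x => by
      obtain ⟨a, rfl⟩ := hbot x
      exact isAlgebraic_algebraMap a⟩
    exact Algebra.IsAlgebraic.trans k (⊥ : IntermediateField k K) _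
  have : TensorProduct.CompatibleSMul k (⊥ : IntermediateField k K)
      (AlgebraicClosure (⊥ : IntermediateField k K)) L := ⟨fun r m n => by
    obtain ⟨a, rfl⟩ := hbot r
    rw [algebraMap_smul, algebraMap_smul, TensorProduct.smul_tmul]⟩
  exact isReduced_of_injective
    (Algebra.TensorProduct.equivOfCompatibleSMul k (⊥ : IntermediateField k K) k
      (AlgebraicClosure (⊥ : IntermediateField k K)) L)
    (AlgEquiv.injective _)

theorem eq_zero_of_separable_base [Algebra.IsGeometricallyReduced k L]
    (z : L ⊗[K] Ω[K⁄k₀]) (hz : mapBaseChange k₀ K L z = 0)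
    (h : (KaehlerDifferential.map k₀ k K K).baseChange L z = 0) : z = 0 := by
  have := isGeometricallyReduced_bot (k := k) (K := K) (L := L)
  have := (Groth.Agent.EGA41Lib.formallySmooth_iff_isGeometricallyReduced
    (k := (⊥ : IntermediateField k K)) (K := L)).2 this
  have : IsScalarTower k₀ (⊥ : IntermediateField k K) K :=
    IsScalarTower.of_algebraMap_eq fun _ => rfl
  have : IsScalarTower k₀ (⊥ : IntermediateField k K) L :=
    IsScalarTower.of_algebraMap_eq fun x => by
      rw [IsScalarTower.algebraMap_apply k₀ K L,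
        IsScalarTower.algebraMap_apply (⊥ : IntermediateField k K) K L,
        ← IsScalarTower.algebraMap_apply k₀ (⊥ : IntermediateField k K) K]
  refine eq_zero_of_injective (S := (⊥ : IntermediateField k K))
    Groth.Agent.EGA41Lib.injective_of_formallySmooth z hz ?_
  rw [← map_map_baseChange (S := k), h, map_zero]

omit [Field k] in
theorem eq_zero_of_separable_top [Algebra.FormallySmooth K L]
    (z : L ⊗[K] Ω[K⁄k₀]) (hz : mapBaseChange k₀ K L z = 0) : z = 0 :=
  Groth.Agent.EGA41Lib.injective_of_formallySmooth (hz.trans (map_zero _).symm)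

omit [Algebra k₀ L] [Algebra k L] [IsScalarTower k₀ k L] [IsScalarTower k₀ K L]
  [IsScalarTower k K L] in
theorem eq_zero_of_le_pPowerSubalgebra (p : ℕ) [CharP K p]
    (hle : ∀ x : k, algebraMap k K x ∈ EGA41.pPowerSubalgebra p k₀ K)
    (z : L ⊗[K] Ω[K⁄k₀]) (h : (KaehlerDifferential.map k₀ k K K).baseChange L z = 0) : z = 0 := by
  have hd : ∀ y ∈ EGA41.pPowerSubalgebra p k₀ K, D k₀ K y = 0 := by
    intro y hy
    induction hy using Algebra.adjoin_induction with
    | mem x hx =>
      obtain ⟨b, rfl⟩ := hx
      change D k₀ K (b ^ p) = 0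
      rw [Derivation.leibniz_pow, ← Nat.cast_smul_eq_nsmul K, CharP.cast_eq_zero, zero_smul]
    | algebraMap r => exact Derivation.map_algebraMap _ r
    | add a b _ _ ha hb => rw [map_add, ha, hb, add_zero]
    | mul a b _ _ ha hb => rw [Derivation.leibniz, ha, hb, smul_zero, smul_zero, add_zero]
  have h0 : mapBaseChange k₀ k K = 0 := ext_one_tmul_D fun x => by
    rw [mapBaseChange_tmul, KaehlerDifferential.map_D, hd _ (hle x), smul_zero,
      LinearMap.zero_apply]
  have hinj : Function.Injective (KaehlerDifferential.map k₀ k K K) := by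
    rw [← LinearMap.ker_eq_bot, LinearMap.ker_eq_bot']
    intro y hy
    obtain ⟨w, rfl⟩ := (exact_mapBaseChange_map k₀ k K y).1 hy
    rw [h0, LinearMap.zero_apply]
  have := Module.Flat.lTensor_preserves_injective_linearMap (M := L) _ hinj
  rw [LinearMap.baseChange_eq_ltensor] at h
  exact this (h.trans (map_zero _).symm)

theorem admissible (p : ℕ) [ExpChar K p]
    (h : Algebra.IsGeometricallyReduced k L ∨ Algebra.IsGeometricallyReduced K L ∨
      ∀ x : k, algebraMap k K x ∈ EGA41.pPowerSubalgebra p k₀ K)
    (z : L ⊗[K] Ω[K⁄k₀]) (hz : mapBaseChange k₀ K L z = 0)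
    (hz' : (KaehlerDifferential.map k₀ k K K).baseChange L z = 0) : z = 0 := by
  rcases h with h | h | h
  · exact eq_zero_of_separable_base z hz hz'
  · have := (Groth.Agent.EGA41Lib.formallySmooth_iff_isGeometricallyReduced
      (k := K) (K := L)).2 h
    exact eq_zero_of_separable_top z hz
  · rcases ‹ExpChar K p› with _ | @⟨q, hq, hc⟩
    · have := Groth.Agent.EGA41Lib.formallySmooth_of_charZero (k := K) (K := L)
      exact eq_zero_of_separable_top z hz
    · exact eq_zero_of_le_pPowerSubalgebra p h z hz'

end Separable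

section SubfieldTower

variable {k : Type u} {k' : Type u'} {k'' : Type u''} {K L : Type w}
  [Field k] [Field k'] [Field k''] [Field K] [Field L]
  [Algebra k k'] [Algebra k k''] [Algebra k' k''] [IsScalarTower k k' k'']
  [Algebra k K] [Algebra k' K] [Algebra k'' K] [IsScalarTower k k' K] [IsScalarTower k' k'' K]
  [IsScalarTower k k'' K] [Algebra K L] [Algebra k L] [Algebra k' L]
  [IsScalarTower k K L] [IsScalarTower k' K L]

theorem exists_lift (w : L ⊗[K] Ω[K⁄k']) (hw : mapBaseChange k' K L w = 0)
    (hw' : (KaehlerDifferential.map k' k'' K K).baseChange L w = 0) :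
    ∃ z : L ⊗[K] Ω[K⁄k], mapBaseChange k K L z = 0 ∧
      (KaehlerDifferential.map k k'' K K).baseChange L z = 0 ∧
      (KaehlerDifferential.map k k' K K).baseChange L z = w := by
  haveI : IsScalarTower k k' L := IsScalarTower.of_algebraMap_eq fun x => by
    rw [IsScalarTower.algebraMap_apply k K L, IsScalarTower.algebraMap_apply k' K L,
      ← IsScalarTower.algebraMap_apply k k' K]
  have hsur : Function.Surjective ((KaehlerDifferential.map k k' K K).baseChange L) := by
    rw [LinearMap.baseChange_eq_ltensor]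
    exact LinearMap.lTensor_surjective L (KaehlerDifferential.map_surjective k k' K)
  obtain ⟨z, rfl⟩ := hsur w
  have hker : KaehlerDifferential.map k k' L L (mapBaseChange k K L z) = 0 := by
    rw [← mapBaseChange_map, hw]
  obtain ⟨y, hy⟩ := (exact_mapBaseChange_map k k' L _).1 hker
  refine ⟨z - kap k k' K L y, ?_, ?_, ?_⟩
  · rw [map_sub, mapBaseChange_kap, hy, sub_self]
  · rw [map_sub, ← map_map_baseChange (S := k') z, hw', ← map_map_baseChange (S := k'),
      map_baseChange_kap, map_zero, sub_self]
  · rw [map_sub, map_baseChange_kap, sub_zero]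

theorem rank_tower :
    Module.rank L ↥(EGA41.imperfection k K L ⊓
          LinearMap.ker ((KaehlerDifferential.map k k'' K K).baseChange L)) =
      Module.rank L ↥(EGA41.imperfection k' K L ⊓
            LinearMap.ker ((KaehlerDifferential.map k' k'' K K).baseChange L)) +
        Module.rank L ↥(EGA41.imperfection k K L ⊓
            LinearMap.ker ((KaehlerDifferential.map k k' K K).baseChange L)) := by
  haveI : IsScalarTower k k' L := IsScalarTower.of_algebraMap_eq fun x => by
    rw [IsScalarTower.algebraMap_apply k K L, IsScalarTower.algebraMap_apply k' K L,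
      ← IsScalarTower.algebraMap_apply k k' K]
  let π := (KaehlerDifferential.map k k' K K).baseChange L
  let N := EGA41.imperfection k K L ⊓
    LinearMap.ker ((KaehlerDifferential.map k k'' K K).baseChange L)
  let g : ↥N →ₗ[L] L ⊗[K] Ω[K⁄k'] := π.comp N.subtype
  have hrange : LinearMap.range g = EGA41.imperfection k' K L ⊓
      LinearMap.ker ((KaehlerDifferential.map k' k'' K K).baseChange L) := by
    ext w
    constructor
    · rintro ⟨⟨z, hz1, hz2⟩, rfl⟩
      refine ⟨LinearMap.mem_ker.2 ?_, LinearMap.mem_ker.2 ?_⟩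
      · change mapBaseChange k' K L (π z) = 0
        rw [mapBaseChange_map, LinearMap.mem_ker.1 hz1, map_zero]
      · change (KaehlerDifferential.map k' k'' K K).baseChange L (π z) = 0
        rw [map_map_baseChange]
        exact LinearMap.mem_ker.1 hz2
    · rintro ⟨hw1, hw2⟩
      obtain ⟨z, h1, h2, h3⟩ := exists_lift (k := k) (k'' := k'') w (LinearMap.mem_ker.1 hw1)
        (LinearMap.mem_ker.1 hw2)
      exact ⟨⟨z, LinearMap.mem_ker.2 h1, LinearMap.mem_ker.2 h2⟩, h3⟩
  have hkermap : (LinearMap.ker g).map N.subtype =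
      EGA41.imperfection k K L ⊓ LinearMap.ker π := by
    ext z
    constructor
    · rintro ⟨⟨y, hy1, hy2⟩, hy, rfl⟩
      exact ⟨hy1, hy⟩
    · rintro ⟨h1, h2⟩
      refine ⟨⟨z, h1, LinearMap.mem_ker.2 ?_⟩, h2, rfl⟩
      rw [← map_map_baseChange (S := k') z, LinearMap.mem_ker.1 h2, map_zero]
  change Module.rank L ↥N = _
  refine (LinearMap.rank_range_add_rank_ker (R := L) (M := ↥N)
    (M₁ := L ⊗[K] Ω[K⁄k']) g).symm.trans ?_
  rw [hrange,
    (Submodule.equivMapOfInjective N.subtype N.subtype_injective (LinearMap.ker g)).rank_eq,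
    hkermap]

end SubfieldTower

section ExtensionTower

variable {k₀ : Type u} {k : Type u'} {K L M : Type w}
  [Field k₀] [Field k] [Field K] [Field L] [Field M] [Algebra k₀ k]
  [Algebra k₀ K] [Algebra k K] [IsScalarTower k₀ k K] [Algebra k₀ L] [Algebra k L]
  [IsScalarTower k₀ k L] [Algebra K L] [Algebra K M] [Algebra L M] [IsScalarTower K L M]
  [Algebra k₀ M] [Algebra k M] [IsScalarTower k₀ K L] [IsScalarTower k K L]
  [IsScalarTower k₀ K M] [IsScalarTower k K M] [IsScalarTower k₀ L M] [IsScalarTower k L M]

theorem rank_extension :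
    Module.rank M ↥(EGA41.imperfection k₀ K M ⊓
          LinearMap.ker ((KaehlerDifferential.map k₀ k K K).baseChange M)) =
      Module.rank M ↥(EGA41.imperfection k₀ L M ⊓
            LinearMap.ker ((KaehlerDifferential.map k₀ k L L).baseChange M)) +
        Module.rank L ↥(EGA41.imperfection k₀ K L ⊓
            LinearMap.ker ((KaehlerDifferential.map k₀ k K K).baseChange L)) := by
  let N := EGA41.imperfection k₀ K M ⊓
    LinearMap.ker ((KaehlerDifferential.map k₀ k K K).baseChange M)
  let N' := EGA41.imperfection k₀ K L ⊓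
    LinearMap.ker ((KaehlerDifferential.map k₀ k K K).baseChange L)
  let g : ↥N →ₗ[M] M ⊗[L] Ω[L⁄k₀] := (kap k₀ K L M).comp N.subtype
  haveI : IsScalarTower k₀ k M := IsScalarTower.of_algebraMap_eq fun x => by
    rw [IsScalarTower.algebraMap_apply k₀ K M, IsScalarTower.algebraMap_apply k K M,
      ← IsScalarTower.algebraMap_apply k₀ k K]
  -- the square with `Ω_{-/k}`
  have hsq : ∀ z : M ⊗[K] Ω[K⁄k₀],
      (KaehlerDifferential.map k₀ k L L).baseChange M (kap k₀ K L M z) =
        kap k K L M ((KaehlerDifferential.map k₀ k K K).baseChange M z) := by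
    intro z
    refine LinearMap.congr_fun
      (f := ((KaehlerDifferential.map k₀ k L L).baseChange M).comp (kap k₀ K L M))
      (g := (kap k K L M).comp ((KaehlerDifferential.map k₀ k K K).baseChange M)) ?_ z
    refine ext_one_tmul_D fun x => ?_
    simp only [LinearMap.comp_apply, kap_tmul_D, LinearMap.baseChange_tmul,
      KaehlerDifferential.map_D, Algebra.algebraMap_self_apply]
  have hsq' : ∀ y : M ⊗[k] Ω[k⁄k₀],
      kap k₀ K L M (kap k₀ k K M y) = kap k₀ k L M y := by
    intro y
    refine LinearMap.congr_fun (f := (kap k₀ K L M).comp (kap k₀ k K M)) ?_ y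
    refine ext_one_tmul_D fun x => ?_
    rw [LinearMap.comp_apply, kap_tmul_D, kap_tmul_D, kap_tmul_D,
      ← IsScalarTower.algebraMap_apply]
  have hrange : LinearMap.range g = EGA41.imperfection k₀ L M ⊓
      LinearMap.ker ((KaehlerDifferential.map k₀ k L L).baseChange M) := by
    ext w
    constructor
    · rintro ⟨⟨z, hz1, hz2⟩, rfl⟩
      refine ⟨LinearMap.mem_ker.2 ?_, LinearMap.mem_ker.2 ?_⟩
      · change mapBaseChange k₀ L M (kap k₀ K L M z) = 0
        rw [mapBaseChange_kap]
        exact LinearMap.mem_ker.1 hz1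
      · change (KaehlerDifferential.map k₀ k L L).baseChange M (kap k₀ K L M z) = 0
        rw [hsq, LinearMap.mem_ker.1 hz2, map_zero]
    · rintro ⟨hw1, hw2⟩
      obtain ⟨y, hy⟩ := exists_kap_eq (S := k) w (LinearMap.mem_ker.1 hw2)
      refine ⟨⟨kap k₀ k K M y, LinearMap.mem_ker.2 ?_,
        LinearMap.mem_ker.2 (map_baseChange_kap y)⟩, ?_⟩
      · rw [mapBaseChange_kap, ← mapBaseChange_kap (K := L) y, hy]
        exact LinearMap.mem_ker.1 hw1
      · change kap k₀ K L M (kap k₀ k K M y) = w
        rw [hsq', hy]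
  -- the kernel is the base change of `N'`
  let f₁ := mapBaseChange k₀ K L
  let f₂ := (KaehlerDifferential.map k₀ k K K).baseChange L
  let e := AlgebraTensorModule.cancelBaseChange K L M M Ω[K⁄k₀]
  have hN' : ∀ u, u ∈ N' ↔ f₁.prod f₂ u = 0 := fun u =>
    ⟨fun hu => Prod.ext hu.1 hu.2, fun hu => ⟨(Prod.ext_iff.1 hu).1, (Prod.ext_iff.1 hu).2⟩⟩
  have hf2 : ∀ y, (KaehlerDifferential.map k₀ k K K).baseChange M (e y) =
      AlgebraTensorModule.cancelBaseChange K L M M Ω[K⁄k] (f₂.baseChange M y) := by
    intro y
    induction y using TensorProduct.induction_on with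
    | zero => simp only [map_zero]
    | add a b ha hb => rw [map_add, map_add, map_add, map_add, ha, hb]
    | tmul m v =>
      induction v using TensorProduct.induction_on with
      | zero => simp only [TensorProduct.tmul_zero, map_zero]
      | add a b ha hb =>
        rw [TensorProduct.tmul_add, map_add, map_add, map_add, map_add, ha, hb]
      | tmul l ω => simp [e, f₂]
  have hkap : ∀ y, kap k₀ K L M (e y) = f₁.baseChange M y := by
    intro y
    rw [kap, LinearMap.comp_apply, LinearEquiv.coe_coe, LinearEquiv.symm_apply_apply]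
  have hprod : ∀ y : M ⊗[L] (L ⊗[K] Ω[K⁄k₀]),
      TensorProduct.prodRight L L M _ _ ((f₁.prod f₂).baseChange M y) =
        (f₁.baseChange M y, f₂.baseChange M y) := by
    intro y
    induction y using TensorProduct.induction_on with
    | zero =>
      simp only [map_zero]
      rfl
    | add a b ha hb => simp only [map_add, ha, hb, Prod.mk_add_mk]
    | tmul m v => simp
  let j : M ⊗[L] ↥N' →ₗ[M] M ⊗[K] Ω[K⁄k₀] := e.toLinearMap.comp (N'.subtype.baseChange M)
  have hj : Function.Injective j := by
    refine e.injective.comp ?_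
    rw [LinearMap.baseChange_eq_ltensor]
    exact Module.Flat.lTensor_preserves_injective_linearMap _ N'.subtype_injective
  have hex : Function.Exact (N'.subtype.lTensor M) ((f₁.prod f₂).lTensor M) := by
    have h0 : Function.Exact N'.subtype (f₁.prod f₂) := fun u => by
      constructor
      · exact fun hu => ⟨⟨u, (hN' u).2 hu⟩, rfl⟩
      · rintro ⟨v, rfl⟩
        exact (hN' _).1 v.2
    exact Module.Flat.lTensor_exact (R := L) M (N := ↥N') (N' := L ⊗[K] Ω[K⁄k₀])
      (N'' := Ω[L⁄k₀] × (L ⊗[K] Ω[K⁄k])) h0
  have hkermap : (LinearMap.ker g).map N.subtype = LinearMap.range j := by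
    ext z
    constructor
    · rintro ⟨⟨z, hz1, hz2⟩, hz, rfl⟩
      obtain ⟨y, rfl⟩ := e.surjective z
      have h1 : f₁.baseChange M y = 0 := (hkap y).symm.trans hz
      have h2 : f₂.baseChange M y = 0 := by
        have h3 := (hf2 y).symm.trans (LinearMap.mem_ker.1 hz2)
        exact (AlgebraTensorModule.cancelBaseChange K L M M Ω[K⁄k]).map_eq_zero_iff.1 h3
      have h0 : (f₁.prod f₂).lTensor M y = 0 := by
        apply (TensorProduct.prodRight L L M _ _).injective
        rw [map_zero, ← LinearMap.baseChange_eq_ltensor, hprod, h1, h2]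
        rfl
      obtain ⟨v, hv⟩ := (hex y).1 h0
      refine ⟨v, ?_⟩
      change e (N'.subtype.baseChange M v) = e y
      rw [LinearMap.baseChange_eq_ltensor, hv]
    · rintro ⟨v, rfl⟩
      have h0 : (f₁.prod f₂).lTensor M (N'.subtype.lTensor M v) = 0 := (hex _).2 ⟨v, rfl⟩
      have h12 := hprod (N'.subtype.baseChange M v)
      rw [LinearMap.baseChange_eq_ltensor, LinearMap.baseChange_eq_ltensor, h0, map_zero] at h12
      obtain ⟨h1, h2⟩ := Prod.ext_iff.1 h12.symm
      have hk : kap k₀ K L M (j v) = 0 := by
        change kap k₀ K L M (e _) = 0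
        rw [hkap, LinearMap.baseChange_eq_ltensor]
        exact h1
      refine ⟨⟨j v, LinearMap.mem_ker.2 ?_, LinearMap.mem_ker.2 ?_⟩, hk, rfl⟩
      · rw [← mapBaseChange_kap (K := L) (S := K), hk, map_zero]
      · change (KaehlerDifferential.map k₀ k K K).baseChange M (e _) = 0
        rw [hf2, LinearMap.baseChange_eq_ltensor]
        exact (congrArg _ h2).trans (map_zero _)
  have : Module.Free L ↥N' := Module.Free.of_divisionRing L ↥N'
  change Module.rank M ↥N = _
  refine (LinearMap.rank_range_add_rank_ker (R := M) (M := ↥N)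
    (M₁ := M ⊗[L] Ω[L⁄k₀]) g).symm.trans ?_
  rw [hrange,
    (Submodule.equivMapOfInjective N.subtype N.subtype_injective (LinearMap.ker g)).rank_eq,
    hkermap, rank_range_of_injective j hj, Module.rank_baseChange, Cardinal.lift_id]

end ExtensionTower

end Groth.Agent.AdmDefect
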